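import Groth.Agent.WEtFieldLib.Basic
import Mathlib

/-! Weakly étale algebras over reduced rings and over von Neumann regular rings. -/

set_option autoImplicit false
set_option linter.style.haveILetI false
universe u

open TensorProduct CategoryTheory CategoryTheory.Limits AlgebraicGeometry

namespace Groth.Agent.WEtReducedLib

theorem forall_dvd_of_weaklyEtale {A B : Type u} [CommRing A] [CommRing B] [Algebra A B]
    [Algebra.WeaklyEtale A B] (hA : ∀ a : A, ∃ x, a = a * a * x) (b : B) : ∃ x, b = b * b * x :=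
  AbsFlat.forall_dvd_of_flat (fun M _ _ => by
    let : Module A M := Module.compHom M (algebraMap A B)
    have : IsScalarTower A B M := ⟨fun a b m => by
      rw [Algebra.smul_def, mul_smul]; rfl⟩
    haveI : Module.Flat A M := AbsFlat.flat_of_forall_dvd hA M
    exact AbsFlat.flat_of_flat_mul (Algebra.WeaklyEtale.flat_lmul' A B) M) b

theorem isReduced_of_forall_dvd {B : Type u} [CommRing B] (h : ∀ b : B, ∃ x, b = b * b * x) : IsReduced B := by
  refine (isReduced_iff_pow_one_lt 2 one_lt_two).2 fun a ha => ?_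
  obtain ⟨x, hx⟩ := h a
  rw [hx, ← pow_two, ha, zero_mul]

theorem isReduced_of_weaklyEtale (A B : Type u) [CommRing A] [CommRing B] [Algebra A B] [IsReduced A]
    [Algebra.WeaklyEtale A B] : IsReduced B := by
  let P := (p : PrimeSpectrum A) → p.asIdeal.ResidueField
  have hP : ∀ a : P, ∃ x, a = a * a * x := fun a => ⟨fun p => (a p)⁻¹, by
    funext p
    show a p = a p * a p * (a p)⁻¹
    rcases eq_or_ne (a p) 0 with h | h
    · rw [h]; simp
    · field_simp⟩
  haveI := isReduced_of_forall_dvd (forall_dvd_of_weaklyEtale (A := P) (B := P ⊗[A] B) hP)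
  have hinj : Function.Injective (algebraMap A P) := by
    rw [injective_iff_map_eq_zero]
    intro a ha
    have : a ∈ nilradical A := by
      rw [nilradical_eq_sInf, Submodule.mem_sInf]
      intro p (hp : Ideal.IsPrime p)
      haveI := hp
      exact Ideal.algebraMap_residueField_eq_zero.1 (congrFun ha (⟨p, hp⟩ : PrimeSpectrum A))
    exact IsNilpotent.eq_zero this
  exact isReduced_of_injective (Algebra.TensorProduct.includeRight : B →ₐ[A] P ⊗[A] B).toRingHom
    (Algebra.TensorProduct.includeRight_injective hinj)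

/-- The ring map of a weakly étale morphism of affine schemes is weakly étale. -/
theorem weaklyEtale_of_spec {R S : CommRingCat.{u}} (φ : R ⟶ S) [hW : AlgebraicGeometry.WeaklyEtale (Spec.map φ)] :
    letI := φ.hom.toAlgebra
    Algebra.WeaklyEtale R S := by
  letI := φ.hom.toAlgebra
  have h1 : Flat (Spec.map φ) := inferInstance
  have h2 : Flat (pullback.diagonal (Spec.map (CommRingCat.ofHom (algebraMap R S)))) :=
    show Flat (pullback.diagonal (Spec.map φ)) from inferInstance
  refine ⟨(HasRingHomProperty.Spec_iff (P := @Flat)).1 h1, ?_⟩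
  rw [diagonal_SpecMap] at h2
  haveI : MorphismProperty.RespectsIso (@Flat : MorphismProperty Scheme.{u}) := MorphismProperty.IsStableUnderBaseChange.respectsIso
  have h3 : Flat (Spec.map (CommRingCat.ofHom (Algebra.TensorProduct.lmul' R (S := S)).toRingHom)) :=
    (MorphismProperty.cancel_right_of_respectsIso (P := @Flat) _ (pullbackSpecIso R S S).inv).1 h2
  exact (HasRingHomProperty.Spec_iff (P := @Flat)).1 h3

theorem weaklyEtale_appLE {X Y : Scheme.{u}} (f : X ⟶ Y) [AlgebraicGeometry.WeaklyEtale f] {U : X.Opens}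
    (hU : IsAffineOpen U) {V : Y.Opens} (hV : IsAffineOpen V) (e : U ≤ f ⁻¹ᵁ V) :
    letI := (f.appLE V U e).hom.toAlgebra
    Algebra.WeaklyEtale Γ(Y, V) Γ(X, U) := by
  haveI : AlgebraicGeometry.WeaklyEtale (Spec.map (f.appLE V U e) ≫ hV.fromSpec) := by
    rw [hV.SpecMap_appLE_fromSpec f hU e]
    infer_instance
  haveI : AlgebraicGeometry.WeaklyEtale (Spec.map (f.appLE V U e)) :=
    AlgebraicGeometry.WeaklyEtale.of_comp _ hV.fromSpec
  exact weaklyEtale_of_spec _

theorem isReduced_of_weaklyEtale_scheme {X Y : Scheme.{u}} (f : X ⟶ Y) [AlgebraicGeometry.WeaklyEtale f]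
    [IsReduced Y] : IsReduced X := by
  haveI : ∀ x : X, _root_.IsReduced (X.presheaf.stalk x) := fun x => by
    obtain ⟨V, hV, hxV, -⟩ := exists_isAffineOpen_mem_and_subset (x := f.base x) (U := ⊤) trivial
    obtain ⟨U, hU, hxU, hUV⟩ := exists_isAffineOpen_mem_and_subset (x := x) (U := f ⁻¹ᵁ V) hxV
    letI := (f.appLE V U hUV).hom.toAlgebra
    haveI := weaklyEtale_appLE f hU hV hUV
    haveI : _root_.IsReduced Γ(X, U) := isReduced_of_weaklyEtale Γ(Y, V) Γ(X, U)
    letI := X.presheaf.algebra_section_stalk (⟨x, hxU⟩ : U)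
    haveI := hU.isLocalization_stalk ⟨x, hxU⟩
    exact isReduced_localizationPreserves ((hU.primeIdealOf ⟨x, hxU⟩).asIdeal.primeCompl) (X.presheaf.stalk x) inferInstance
  exact isReduced_of_isReduced_stalk X

end Groth.Agent.WEtReducedLib
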